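import Cfsg.Agent.Lib.TCX.M24pB.C0
import Cfsg.Agent.Lib.TCX.Cert

set_option autoImplicit false
set_option maxRecDepth 100000
set_option Elab.async false

namespace Cfsg.Agent.TCX.M24pB

open Cfsg.Agent.CG

/-- The relators used. -/
noncomputable def R : List (List ℕ) := [[4,1,0],
  [2,1],
  [4,3],
  [6,5],
  [8,7],
  [10,9],
  [12,11],
  [14,13],
  [16,15],
  [0,0],
  [1,1,1],
  [1,2],
  [8,2,0,1,0,1,0,2,0,1],
  [10,2,0,2,0,2,0,1,0,1,0,2,0,1,0,1,0,1],
  [12,2,0,2,0,1,0,2,0,1,0,1,0,2,0,1,0,1],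
  [6,2,0,2,0,1,0,1,0,1,0,2,0,2,0,1,0,1],
  [16,2,0,2,0,2,0,2,0,2,0,1,0,1,0,1,0,1,0,1,0,1],
  [14,2,0,2,0,2,0,2,0,1,0,1,0,2,0,1,0,1,0,1,0,1],
  [3,4],
  [5,6],
  [7,8],
  [9,10],
  [11,12],
  [13,14],
  [15,16],
  [16,13,9,5,10,14],
  [12,12,12],
  [10,14,8,12,15],
  [16,10,16,5,10],
  [14,11,6,11,5,12],
  [12,5,3,7,4,6],
  [10,10,10],
  [11,6,12,5,12,13],
  [14,7,9,8],
  [9,6,15,9,15],
  [11,11,11],
  [7,10,8,13],
  [16,6,15,14,15,13],
  [14,11,4,4,8],
  [10,3,7,3,3,3,6],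
  [3,3,3,8,4,4,4,9],
  [5,3,8,4,6,11],
  [12,7,9,3,3],
  [13,9,6,10,14,15],
  [16,14,10,12,6,8,3],
  [6,6,6],
  [16,16,16],
  [13,13,13],
  [15,15,15],
  [7,3,3,12,13],
  [12,7,3,3,3,7,4],
  [8,8,8],
  [4,4,10,8,11],
  [14,16,13,16,5,15],
  [7,7,7],
  [4,7,5,11,9,13,15],
  [16,9,6,12,7,4,4,10,15,14],
  [16,9,7,4,4,11,5,14],
  [16,9,8,10,16,9,8,10],
  [5,4,4,4,8,4,9],
  [10,3,3,3,7,4,4,4],
  [12,3,8,10,7,4,4,4,11,6],
  [5,5,5],
  [16,11,7,13,9],
  [14,14,14],
  [4,4,4,4,4,4,4,4,4,4,4,4,4,4,4,4,4,4,4,4,4,4,4],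
  [5,12,7,3,3,6,11],
  [16,10,15,13,9,7,3,3,8,14],
  [13,5,14,15,13,5,14,15],
  [13,11,5,15,13,11,5,15],
  [16,13,16,13,16,13,16,13,16,13],
  [6,11,5,13,6,11,5,13],
  [16,13,6,14,16,13,6,14],
  [14,6,12,5,14,6,12,5],
  [14,15,14,15,14,15,14,15,14,15],
  [6,11,6,11,6,11,6,11,6,11],
  [12,5,12,5,12,5,12,5,12,5],
  [16,6,12,14,16,6,12,14]]

noncomputable def invL : List ℕ := [0,2,1,4,3,6,5,8,7,10,9,12,11,14,13,16,15]

/-- How the relators used follow from the given ones. -/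
noncomputable def hints : List (ℕ × Bool × List ℕ) := [(9,false,[]),
  (55,false,[]),
  (55,false,[]),
  (55,false,[]),
  (55,false,[]),
  (55,false,[]),
  (55,false,[]),
  (55,false,[]),
  (55,false,[]),
  (55,false,[]),
  (2,false,[]),
  (55,false,[]),
  (13,false,[]),
  (15,false,[]),
  (17,false,[]),
  (11,false,[]),
  (21,false,[]),
  (19,false,[]),
  (55,false,[]),
  (55,false,[]),
  (55,false,[]),
  (55,false,[]),
  (55,false,[]),
  (55,false,[]),
  (55,false,[]),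
  (34,false,[]),
  (24,false,[]),
  (30,true,[]),
  (29,false,[]),
  (35,false,[]),
  (36,false,[]),
  (25,false,[]),
  (35,true,[]),
  (28,false,[]),
  (29,true,[]),
  (24,true,[]),
  (28,true,[]),
  (33,false,[]),
  (31,false,[]),
  (41,false,[]),
  (47,true,[]),
  (36,true,[]),
  (32,false,[]),
  (34,true,[]),
  (37,false,[]),
  (27,false,[]),
  (22,false,[]),
  (23,true,[]),
  (22,true,[]),
  (31,true,[]),
  (40,false,[]),
  (26,false,[]),
  (32,true,[]),
  (33,true,[]),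
  (26,true,[]),
  (37,true,[]),
  (49,false,[]),
  (44,false,[]),
  (43,false,[]),
  (41,true,[]),
  (47,false,[]),
  (52,false,[]),
  (27,true,[]),
  (30,false,[]),
  (23,false,[]),
  (54,false,[]),
  (39,true,[]),
  (48,false,[]),
  (45,true,[]),
  (42,true,[]),
  (50,false,[]),
  (46,true,[]),
  (45,false,[]),
  (46,false,[]),
  (50,true,[]),
  (53,true,[]),
  (53,false,[]),
  (42,false,[])]

theorem l0all : ∀ a, a < 18 → l0f a = 0 :=
  allz_of_orR c0
theorem l0ru : allLt (rusChk R (nat_lit 17) l0R) 18 = true := by decide +kernel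
theorem l0gm : Glue l0m := fun _ _ _ => chkM_append
theorem l0mm : l0m 24 0 = 0 := c1
theorem l0_ok : Idx R [0,1,2] [3,4,5,6,7,8,9,10,11,12,13,14,15,16] 24 :=
  idx_of_chk (cm := 0) (q := 8) (d := 1) (s2 := 24) (full := 1) (f := l0f) (by decide +kernel) (by decide +kernel) (fun _ => rfl) l0all l0ru (by decide +kernel) (by decide +kernel) l0mm

theorem l1all : ∀ a, a < 18 → l1f a = 0 :=
  allz_of_orR c2
theorem l1ru : allLt (rusChk R (nat_lit 17) l1R) 18 = true := by decide +kernel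
theorem l1gm : Glue l1m := fun _ _ _ => chkM_append
theorem l1mm : l1m 23 9 = 0 := c3
theorem l1_ok : Idx R [3,4,5,6,7,8,9,10,11,12,13,14,15,16] [5,6,11,12,13,14,15,16] 23 :=
  idx_of_chk (cm := 9) (q := 8) (d := 1) (s2 := 24) (full := 1) (f := l1f) (by decide +kernel) (by decide +kernel) (fun _ => rfl) l1all l1ru (by decide +kernel) (by decide +kernel) l1mm

theorem l2all : ∀ a, a < 18 → l2f a = 0 :=
  allz_of_orR c4
theorem l2ru : allLt (rusChk R (nat_lit 17) l2R) 18 = true := by decide +kernel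
theorem l2gm : Glue l2m := fun _ _ _ => chkM_append
theorem l2mm : l2m 77 34 = 0 := c5
theorem l2_ok : Idx R [5,6,11,12,13,14,15,16] [5,6,11,12,13,14] 77 :=
  idx_of_chk (cm := 34) (q := 8) (d := 1) (s2 := 24) (full := 1) (f := l2f) (by decide +kernel) (by decide +kernel) (fun _ => rfl) l2all l2ru (by decide +kernel) (by decide +kernel) l2mm

theorem l3all : ∀ a, a < 18 → l3f a = 0 :=
  allz_of_orR c6
theorem l3ru : allLt (rusChk R (nat_lit 17) l3R) 18 = true := by decide +kernel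
theorem l3gm : Glue l3m := fun _ _ _ => chkM_append
theorem l3mm : l3m 16 12 = 0 := c7
theorem l3_ok : Idx R [5,6,11,12,13,14] [5,6,13,14] 16 :=
  idx_of_chk (cm := 12) (q := 8) (d := 1) (s2 := 24) (full := 1) (f := l3f) (by decide +kernel) (by decide +kernel) (fun _ => rfl) l3all l3ru (by decide +kernel) (by decide +kernel) l3mm

theorem l4all : ∀ a, a < 18 → l4f a = 0 :=
  allz_of_orR c8
theorem l4ru : allLt (rusChk R (nat_lit 17) l4R) 18 = true := by decide +kernel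
theorem l4gm : Glue l4m := fun _ _ _ => chkM_append
theorem l4mm : l4m 120 144 = 0 := c9
theorem l4_ok : Idx R [5,6,13,14] [5,6] 120 :=
  idx_of_chk (cm := 144) (q := 8) (d := 5) (s2 := 32) (full := 31) (f := l4f) (by decide +kernel) (by decide +kernel) (fun _ => rfl) l4all l4ru (by decide +kernel) (by decide +kernel) l4mm

theorem l5all : ∀ a, a < 18 → l5f a = 0 :=
  allz_of_orR c10
theorem l5ru : allLt (rusChk R (nat_lit 17) l5R) 18 = true := by decide +kernel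
theorem l5gm : Glue l5m := fun _ _ _ => chkM_append
theorem l5mm : l5m 3 0 = 0 := c11
theorem l5_ok : Idx R [5,6] [] 3 :=
  idx_of_chk (cm := 0) (q := 8) (d := 1) (s2 := 24) (full := 1) (f := l5f) (by decide +kernel) (by decide +kernel) (fun _ => rfl) l5all l5ru (by decide +kernel) (by decide +kernel) l5mm

theorem bounds : Bounds R [0,1,2] 244823040 := fun _ _ y hR =>
  (show 24 * (23 * (77 * (16 * (120 * (3 * (1)))))) = 244823040 by decide +kernel) ▸ l0_ok.bound hR (l1_ok.bound hR (l2_ok.bound hR (l3_ok.bound hR (l4_ok.bound hR (l5_ok.bound hR (bound_nil y))))))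

end Cfsg.Agent.TCX.M24pB
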