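import Cfsg.Agent.Lib.TCX.M24pB.Defs

set_option autoImplicit false
set_option maxRecDepth 100000
set_option Elab.async false

namespace Cfsg.Agent.TCX.M24pB

theorem c0 : orR l0f 0 18 = 0 := by decide +kernel
theorem c1 : l0m 24 0 = 0 := by decide +kernel
theorem c2 : orR l1f 0 18 = 0 := by decide +kernel
theorem c3 : l1m 23 9 = 0 := by decide +kernel
theorem c4 : orR l2f 0 18 = 0 := by decide +kernel
theorem c5 : l2m 77 34 = 0 := by decide +kernel
theorem c6 : orR l3f 0 18 = 0 := by decide +kernel
theorem c7 : l3m 16 12 = 0 := by decide +kernel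
theorem c8 : orR l4f 0 18 = 0 := by decide +kernel
theorem c9 : l4m 120 144 = 0 := by decide +kernel
theorem c10 : orR l5f 0 18 = 0 := by decide +kernel
theorem c11 : l5m 3 0 = 0 := by decide +kernel

end Cfsg.Agent.TCX.M24pB
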