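import Cfsg.Agent.Lib.TCX.M24pB.D0

set_option autoImplicit false
set_option maxRecDepth 100000
set_option Elab.async false

namespace Cfsg.Agent.TCX.M24pB

noncomputable def l0r0 : Bt Ru := (.node (.leaf ⟨[4,1],0,2⟩) (.leaf ⟨[0],9,0⟩))
noncomputable def l0r1 : Bt Ru := (.node (.node (.node (.leaf ⟨[1,1],10,0⟩) (.leaf ⟨[0,1,0,2,0,1,0,1,12,2,0,2,0,1,0,2,0],14,9⟩)) (.node (.leaf ⟨[0,2,0,1,8,2,0,1,0],12,5⟩) (.leaf ⟨[0,1,0,1,0,1,0,1,0,1,16,2,0,2,0,2,0,2,0,2,0],16,11⟩))) (.node (.node (.leaf ⟨[2],11,0⟩) (.leaf ⟨[0,2,0,2,0,1,0,1,6,2,0,2,0,1,0,1,0],15,9⟩)) (.node (.leaf ⟨[0,2,0,1,0,1,0,1,10,2,0,2,0,2,0,1,0],13,9⟩) (.leaf ⟨[0,2,0,1,0,1,0,1,0,1,14,2,0,2,0,2,0,2,0,1,0],17,11⟩))))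
noncomputable def l0r2 : Bt Ru := (.leaf ⟨[1],1,0⟩)
noncomputable def l0r3 : Bt Ru := (.leaf ⟨[4],18,0⟩)
noncomputable def l0r4 : Bt Ru := (.leaf ⟨[3],2,0⟩)
noncomputable def l0r5 : Bt Ru := (.leaf ⟨[6],19,0⟩)
noncomputable def l0r6 : Bt Ru := (.leaf ⟨[5],3,0⟩)
noncomputable def l0r7 : Bt Ru := (.leaf ⟨[8],20,0⟩)
noncomputable def l0r8 : Bt Ru := (.leaf ⟨[7],4,0⟩)
noncomputable def l0r9 : Bt Ru := (.leaf ⟨[10],21,0⟩)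
noncomputable def l0r10 : Bt Ru := (.leaf ⟨[9],5,0⟩)
noncomputable def l0r11 : Bt Ru := (.leaf ⟨[12],22,0⟩)
noncomputable def l0r12 : Bt Ru := (.leaf ⟨[11],6,0⟩)
noncomputable def l0r13 : Bt Ru := (.leaf ⟨[14],23,0⟩)
noncomputable def l0r14 : Bt Ru := (.leaf ⟨[13],7,0⟩)
noncomputable def l0r15 : Bt Ru := (.leaf ⟨[16],24,0⟩)
noncomputable def l0r16 : Bt Ru := (.leaf ⟨[15],8,0⟩)
noncomputable def l0r17 : Bt Ru := (.leaf ⟨[0,0],9,0⟩)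
noncomputable def l1r0 : Bt Ru := (.leaf ⟨[0],9,0⟩)
noncomputable def l1r1 : Bt Ru := (.leaf ⟨[2],11,0⟩)
noncomputable def l1r2 : Bt Ru := (.leaf ⟨[1],1,0⟩)
noncomputable def l1r3 : Bt Ru := (.node (.node (.node (.leaf ⟨[4],18,0⟩) (.leaf ⟨[3,7,4,4,4,10,3],60,2⟩)) (.node (.leaf ⟨[7,3,3,3,6,10],39,1⟩) (.leaf ⟨[4],18,0⟩))) (.node (.node (.leaf ⟨[8,4,6,11,5],41,1⟩) (.leaf ⟨[3,3,6,10,3,7],39,3⟩)) (.node (.leaf ⟨[12,13,7,3],49,2⟩) (.leaf ⟨[4],18,0⟩))))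
noncomputable def l1r4 : Bt Ru := (.node (.node (.node (.leaf ⟨[3],2,0⟩) (.leaf ⟨[4,4,4,4,4,4,4,4,4,4,4,4,4,4,4,4,4,4,4,4,4,4],65,0⟩)) (.node (.leaf ⟨[4,4,8,4,9,5],59,1⟩) (.leaf ⟨[3],2,0⟩))) (.node (.node (.leaf ⟨[4,8,14,11],38,2⟩) (.leaf ⟨[3],2,0⟩)) (.node (.leaf ⟨[4,10,15,14,16,9,6,12,7],56,5⟩) (.leaf ⟨[3],2,0⟩))))
noncomputable def l1r5 : Bt Ru := (.node (.node (.node (.leaf ⟨[10,14,16,13,9],25,3⟩) (.leaf ⟨[14,16,9,7,4,4,11],57,6⟩)) (.node (.leaf ⟨[6],19,0⟩) (.leaf ⟨[5,5],62,0⟩))) (.node (.node (.leaf ⟨[12,14,11,6,11],29,4⟩) (.leaf ⟨[3,7,4,6,12],30,1⟩)) (.node (.leaf ⟨[15,14,16,13,16],53,4⟩) (.leaf ⟨[10,16,10,16],28,3⟩))))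
noncomputable def l1r6 : Bt Ru := (.node (.node (.node (.leaf ⟨[5],3,0⟩) (.leaf ⟨[6,6],45,0⟩)) (.node (.leaf ⟨[15,9,15,9],34,1⟩) (.leaf ⟨[10,14,15,13,9],43,2⟩))) (.node (.node (.leaf ⟨[12,5,3,7,4],30,5⟩) (.leaf ⟨[12,3,8,10,7,4,4,4,11],61,9⟩)) (.node (.leaf ⟨[10,3,7,3,3,3],39,6⟩) (.leaf ⟨[5],3,0⟩))))
noncomputable def l1r7 : Bt Ru := (.node (.node (.leaf ⟨[8],20,0⟩) (.leaf ⟨[3,3,12,13],49,0⟩)) (.node (.leaf ⟨[4,6,12,5,3],30,3⟩) (.leaf ⟨[7,7],54,0⟩)))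
noncomputable def l1r8 : Bt Ru := (.node (.node (.node (.leaf ⟨[7],4,0⟩) (.leaf ⟨[12,15,10,14],27,2⟩)) (.node (.leaf ⟨[8,8],51,0⟩) (.leaf ⟨[14,7,9],33,3⟩))) (.node (.node (.leaf ⟨[14,11,4,4],38,4⟩) (.leaf ⟨[4,6,11,5,3],41,2⟩)) (.node (.leaf ⟨[10,16,9,8,10,16,9],58,6⟩) (.leaf ⟨[11,4,4,10],52,3⟩))))
noncomputable def l1r9 : Bt Ru := (.node (.node (.leaf ⟨[10],21,0⟩) (.leaf ⟨[3,3,3,8,4,4,4],40,7⟩)) (.node (.leaf ⟨[8,14,7],33,2⟩) (.leaf ⟨[3,3,12,7],42,2⟩)))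
noncomputable def l1r10 : Bt Ru := (.node (.node (.node (.leaf ⟨[10,10],31,0⟩) (.leaf ⟨[8,13,7],36,1⟩)) (.node (.leaf ⟨[14,15,13,9,6],43,3⟩) (.leaf ⟨[9],5,0⟩))) (.node (.node (.leaf ⟨[9],5,0⟩) (.leaf ⟨[7,4,4,4,11,6,12,3,8],61,3⟩)) (.node (.leaf ⟨[8,11,4,4],52,2⟩) (.leaf ⟨[9],5,0⟩))))
noncomputable def l1r11 : Bt Ru := (.node (.node (.node (.leaf ⟨[12],22,0⟩) (.leaf ⟨[9,13,15,4,7,5],55,3⟩)) (.node (.leaf ⟨[5,3,8,4,6],41,5⟩) (.leaf ⟨[4,4,10,8],52,4⟩))) (.node (.node (.leaf ⟨[11,11],35,0⟩) (.leaf ⟨[4,4,8,14],38,1⟩)) (.node (.leaf ⟨[5,12,14,11,6],29,3⟩) (.leaf ⟨[12],22,0⟩))))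
noncomputable def l1r12 : Bt Ru := (.node (.node (.node (.node (.leaf ⟨[11],6,0⟩) (.leaf ⟨[7,3,3,6,11,5],66,1⟩)) (.node (.leaf ⟨[7,9,3,3],42,0⟩) (.leaf ⟨[11],6,0⟩))) (.node (.node (.leaf ⟨[13,11,6,12,5],32,4⟩) (.leaf ⟨[11],6,0⟩)) (.node (.leaf ⟨[7,3,3,3,7,4],50,0⟩) (.leaf ⟨[11],6,0⟩)))) (.node (.node (.node (.leaf ⟨[12,12],26,0⟩) (.leaf ⟨[11],6,0⟩)) (.node (.leaf ⟨[6,8,3,16,14,10],44,3⟩) (.leaf ⟨[11],6,0⟩))) (.node (.node (.leaf ⟨[15,10,14,8],27,3⟩) (.leaf ⟨[11],6,0⟩)) (.node (.leaf ⟨[13,7,3,3],49,3⟩) (.leaf ⟨[11],6,0⟩)))))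
noncomputable def l1r13 : Bt Ru := (.node (.node (.node (.leaf ⟨[14],23,0⟩) (.leaf ⟨[9,7,3,3,8,14,16,10,15],67,3⟩)) (.node (.leaf ⟨[13,13],47,0⟩) (.leaf ⟨[14],23,0⟩))) (.node (.node (.leaf ⟨[7,10,8],36,3⟩) (.leaf ⟨[14],23,0⟩)) (.node (.leaf ⟨[9,5,10,14,16],25,1⟩) (.leaf ⟨[14],23,0⟩))))
noncomputable def l1r14 : Bt Ru := (.node (.node (.node (.leaf ⟨[13],7,0⟩) (.leaf ⟨[11,6,11,5,12],29,0⟩)) (.node (.leaf ⟨[7,9,8],33,0⟩) (.leaf ⟨[14,14],64,0⟩))) (.node (.node (.leaf ⟨[8,12,15,10],27,1⟩) (.leaf ⟨[16,9,6,12,7,4,4,10,15],56,9⟩)) (.node (.leaf ⟨[15,13,9,6,10],43,4⟩) (.leaf ⟨[13],7,0⟩))))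
noncomputable def l1r15 : Bt Ru := (.node (.node (.node (.leaf ⟨[10,14,8,12],27,4⟩) (.leaf ⟨[9,15,9,6],34,2⟩)) (.node (.leaf ⟨[13,16,6,15,14],37,4⟩) (.leaf ⟨[16],24,0⟩))) (.node (.node (.leaf ⟨[16],24,0⟩) (.leaf ⟨[13,9,6,10,14],43,5⟩)) (.node (.leaf ⟨[15,15],48,0⟩) (.leaf ⟨[16],24,0⟩))))
noncomputable def l1r16 : Bt Ru := (.node (.node (.node (.leaf ⟨[15],8,0⟩) (.leaf ⟨[6,15,14,15,13],37,0⟩)) (.node (.leaf ⟨[14,10,12,6,8,3],44,0⟩) (.leaf ⟨[5,10,16,10],28,2⟩))) (.node (.node (.leaf ⟨[10,16,5,10],28,0⟩) (.leaf ⟨[11,7,13,9],63,0⟩)) (.node (.leaf ⟨[16,16],46,0⟩) (.leaf ⟨[9,7,4,4,11,5,14],57,0⟩))))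
noncomputable def l1r17 : Bt Ru := (.node (.node (.node (.leaf ⟨[8,10,16,9,8,10,16,9],58,6⟩) (.leaf ⟨[4,4,8,14,11],38,2⟩)) (.node (.leaf ⟨[12,13,7,3,3],49,3⟩) (.leaf ⟨[0,0],9,0⟩))) (.node (.node (.leaf ⟨[4,4,4,8,4,9,5],59,1⟩) (.leaf ⟨[0,0],9,0⟩)) (.node (.leaf ⟨[15,15,15],48,0⟩) (.leaf ⟨[0,0],9,0⟩))))
noncomputable def l2r0 : Bt Ru := (.leaf ⟨[0],9,0⟩)
noncomputable def l2r1 : Bt Ru := (.leaf ⟨[2],11,0⟩)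
noncomputable def l2r2 : Bt Ru := (.leaf ⟨[1],1,0⟩)
noncomputable def l2r3 : Bt Ru := (.leaf ⟨[4],18,0⟩)
noncomputable def l2r4 : Bt Ru := (.leaf ⟨[3],2,0⟩)
noncomputable def l2r5 : Bt Ru := (.node (.node (.node (.node (.leaf ⟨[6],19,0⟩) (.leaf ⟨[12,13,11,6,12],32,3⟩)) (.node (.leaf ⟨[14,6,12,5,14,6,12],73,7⟩) (.leaf ⟨[6],19,0⟩))) (.node (.node (.leaf ⟨[5,5],62,0⟩) (.leaf ⟨[6],19,0⟩)) (.node (.leaf ⟨[15,13,11,5,15,13,11],69,6⟩) (.leaf ⟨[6],19,0⟩)))) (.node (.node (.node (.leaf ⟨[14,15,13,5,14,15,13],68,5⟩) (.leaf ⟨[6],19,0⟩)) (.node (.leaf ⟨[13,6,11,5,13,6,11],71,6⟩) (.leaf ⟨[6],19,0⟩))) (.node (.node (.leaf ⟨[12,14,11,6,11],29,4⟩) (.leaf ⟨[6],19,0⟩)) (.node (.leaf ⟨[15,14,16,13,16],53,4⟩) (.leaf ⟨[6],19,0⟩)))))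
noncomputable def l2r6 : Bt Ru := (.node (.node (.node (.node (.leaf ⟨[5],3,0⟩) (.leaf ⟨[12,5,14,6,12,5,14],73,5⟩)) (.node (.leaf ⟨[11,5,12,14,11],29,2⟩) (.leaf ⟨[5],3,0⟩))) (.node (.node (.leaf ⟨[6,6],45,0⟩) (.leaf ⟨[5],3,0⟩)) (.node (.leaf ⟨[14,16,13,6,14,16,13],72,6⟩) (.leaf ⟨[5],3,0⟩)))) (.node (.node (.node (.leaf ⟨[15,14,15,13,16],37,1⟩) (.leaf ⟨[5],3,0⟩)) (.node (.leaf ⟨[11,6,11,6,11,6,11,6,11],75,0⟩) (.leaf ⟨[5],3,0⟩))) (.node (.node (.leaf ⟨[12,5,12,13,11],32,1⟩) (.leaf ⟨[5],3,0⟩)) (.node (.leaf ⟨[12,14,16,6,12,14,16],77,5⟩) (.leaf ⟨[5],3,0⟩)))))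
noncomputable def l2r7 : Bt Ru := (.leaf ⟨[8],20,0⟩)
noncomputable def l2r8 : Bt Ru := (.leaf ⟨[7],4,0⟩)
noncomputable def l2r9 : Bt Ru := (.leaf ⟨[10],21,0⟩)
noncomputable def l2r10 : Bt Ru := (.leaf ⟨[9],5,0⟩)
noncomputable def l2r11 : Bt Ru := (.node (.node (.node (.leaf ⟨[5,15,13,11,5,15,13],69,5⟩) (.leaf ⟨[5,12,14,11,6],29,3⟩)) (.node (.leaf ⟨[11,11],35,0⟩) (.leaf ⟨[5,13,6,11,5,13,6],71,5⟩))) (.node (.node (.leaf ⟨[12],22,0⟩) (.leaf ⟨[6,12,5,12,13],32,0⟩)) (.node (.leaf ⟨[6,11,5,12,14],29,1⟩) (.leaf ⟨[12],22,0⟩))))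
noncomputable def l2r12 : Bt Ru := (.node (.node (.node (.leaf ⟨[11],6,0⟩) (.leaf ⟨[5,12,13,11,6],32,2⟩)) (.node (.leaf ⟨[14,11,6,11,5],29,5⟩) (.leaf ⟨[11],6,0⟩))) (.node (.node (.leaf ⟨[12,12],26,0⟩) (.leaf ⟨[13,11,6,12,5],32,4⟩)) (.node (.leaf ⟨[5,12,5,12,5,12,5,12,5],76,0⟩) (.leaf ⟨[11],6,0⟩))))
noncomputable def l2r13 : Bt Ru := (.node (.node (.node (.node (.leaf ⟨[14],23,0⟩) (.leaf ⟨[11,5,15,13,11,5,15],69,0⟩)) (.node (.leaf ⟨[6,11,5,13,6,11,5],71,7⟩) (.leaf ⟨[14],23,0⟩))) (.node (.node (.leaf ⟨[13,13],47,0⟩) (.leaf ⟨[14],23,0⟩)) (.node (.leaf ⟨[16,5,15,14,16],53,2⟩) (.leaf ⟨[14],23,0⟩)))) (.node (.node (.node (.leaf ⟨[16,6,15,14,15],37,5⟩) (.leaf ⟨[14],23,0⟩)) (.node (.leaf ⟨[6,14,16,13,6,14,16],72,5⟩) (.leaf ⟨[14],23,0⟩))) (.node (.node (.leaf ⟨[16,13,16,13,16,13,16,13,16],70,9⟩)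 (.leaf ⟨[14],23,0⟩)) (.node (.leaf ⟨[11,6,12,5,12],32,5⟩) (.leaf ⟨[14],23,0⟩)))))
noncomputable def l2r14 : Bt Ru := (.node (.node (.node (.node (.leaf ⟨[13],7,0⟩) (.leaf ⟨[16,13,6,14,16,13,6],72,7⟩)) (.node (.leaf ⟨[15,14,15,14,15,14,15,14,15],74,0⟩) (.leaf ⟨[13],7,0⟩))) (.node (.node (.leaf ⟨[14,14],64,0⟩) (.leaf ⟨[13],7,0⟩)) (.node (.leaf ⟨[15,13,16,6,15],37,3⟩) (.leaf ⟨[13],7,0⟩)))) (.node (.node (.node (.leaf ⟨[11,6,11,5,12],29,0⟩) (.leaf ⟨[13],7,0⟩)) (.node (.leaf ⟨[15,13,5,14,15,13,5],68,6⟩) (.leaf ⟨[13],7,0⟩))) (.node (.node (.leaf ⟨[16,13,16,5,15],53,0⟩) (.leaf ⟨[13],7,0⟩)) (.node (.leaf ⟨[6,12,5,14,6,12,5],73,0⟩) (.leaf ⟨[13],7,0⟩)))))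
noncomputable def l2r15 : Bt Ru := (.node (.node (.node (.leaf ⟨[16],24,0⟩) (.leaf ⟨[14,15,14,15,14,15,14,15,14],74,9⟩)) (.node (.leaf ⟨[15,15],48,0⟩) (.leaf ⟨[14,15,13,16,6],37,2⟩))) (.node (.node (.leaf ⟨[13,16,6,15,14],37,4⟩) (.leaf ⟨[13,11,5,15,13,11,5],69,7⟩)) (.node (.leaf ⟨[13,5,14,15,13,5,14],68,7⟩) (.leaf ⟨[14,16,13,16,5],53,5⟩))))
noncomputable def l2r16 : Bt Ru := (.node (.node (.node (.leaf ⟨[16,16],46,0⟩) (.leaf ⟨[13,6,14,16,13,6,14],72,0⟩)) (.node (.leaf ⟨[15],8,0⟩) (.leaf ⟨[6,12,14,16,6,12,14],77,0⟩))) (.node (.node (.leaf ⟨[6,15,14,15,13],37,0⟩) (.leaf ⟨[13,16,5,15,14],53,1⟩)) (.node (.leaf ⟨[5,15,14,16,13],53,3⟩) (.leaf ⟨[15],8,0⟩))))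
noncomputable def l2r17 : Bt Ru := (.node (.node (.node (.node (.leaf ⟨[5,15,14,16,13,16],53,4⟩) (.leaf ⟨[13,6,11,5,13,6,11,5],71,7⟩)) (.node (.leaf ⟨[15,14,16,13,16,5],53,5⟩) (.leaf ⟨[0,0],9,0⟩))) (.node (.node (.leaf ⟨[13,11,6,12,5,12],32,5⟩) (.leaf ⟨[12,14,16,6,12,14,16,6],77,6⟩)) (.node (.leaf ⟨[16,6,15,14,15,13],37,0⟩) (.leaf ⟨[0,0],9,0⟩)))) (.node (.node (.node (.leaf ⟨[16,16,16],46,0⟩) (.leaf ⟨[14,11,6,11,5,12],29,0⟩)) (.node (.leaf ⟨[5,12,5,12,5,12,5,12,5,12],76,9⟩) (.leaf ⟨[0,0],9,0⟩))) (.node (.node (.leaf ⟨[15,13,16,6,15,14],37,4⟩) (.leaf ⟨[14,16,6,12,14,16,6,12],77,7⟩)) (.node (.leaf ⟨[6,14,16,13,6,14,16,13],72,6⟩) (.leaf ⟨[0,0],9,0⟩)))))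
noncomputable def l3r0 : Bt Ru := (.leaf ⟨[0],9,0⟩)
noncomputable def l3r1 : Bt Ru := (.leaf ⟨[2],11,0⟩)
noncomputable def l3r2 : Bt Ru := (.leaf ⟨[1],1,0⟩)
noncomputable def l3r3 : Bt Ru := (.leaf ⟨[4],18,0⟩)
noncomputable def l3r4 : Bt Ru := (.leaf ⟨[3],2,0⟩)
noncomputable def l3r5 : Bt Ru := (.node (.node (.node (.leaf ⟨[5,5],62,0⟩) (.leaf ⟨[14,6,12,5,14,6,12],73,7⟩)) (.node (.leaf ⟨[12,14,11,6,11],29,4⟩) (.leaf ⟨[6],19,0⟩))) (.node (.node (.leaf ⟨[6],19,0⟩) (.leaf ⟨[6],19,0⟩)) (.node (.leaf ⟨[12,5,12,5,12,5,12,5,12],76,9⟩) (.leaf ⟨[6],19,0⟩))))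
noncomputable def l3r6 : Bt Ru := (.node (.leaf ⟨[5],3,0⟩) (.leaf ⟨[12,5,14,6,12,5,14],73,5⟩))
noncomputable def l3r7 : Bt Ru := (.leaf ⟨[8],20,0⟩)
noncomputable def l3r8 : Bt Ru := (.leaf ⟨[7],4,0⟩)
noncomputable def l3r9 : Bt Ru := (.leaf ⟨[10],21,0⟩)
noncomputable def l3r10 : Bt Ru := (.leaf ⟨[9],5,0⟩)
noncomputable def l3r11 : Bt Ru := (.node (.node (.node (.leaf ⟨[12],22,0⟩) (.leaf ⟨[6,12,5,12,13],32,0⟩)) (.node (.leaf ⟨[11,11],35,0⟩) (.leaf ⟨[12],22,0⟩))) (.node (.node (.leaf ⟨[5,12,14,11,6],29,3⟩) (.leaf ⟨[6,11,6,11,6,11,6,11,6],75,9⟩)) (.node (.leaf ⟨[6,11,5,12,14],29,1⟩) (.leaf ⟨[12],22,0⟩))))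
noncomputable def l3r12 : Bt Ru := (.node (.node (.node (.leaf ⟨[12,12],26,0⟩) (.leaf ⟨[13,11,6,12,5],32,4⟩)) (.node (.leaf ⟨[14,11,6,11,5],29,5⟩) (.leaf ⟨[11],6,0⟩))) (.node (.node (.leaf ⟨[11],6,0⟩) (.leaf ⟨[11],6,0⟩)) (.node (.leaf ⟨[5,12,5,12,5,12,5,12,5],76,0⟩) (.leaf ⟨[11],6,0⟩))))
noncomputable def l3r13 : Bt Ru := (.node (.node (.leaf ⟨[14],23,0⟩) (.leaf ⟨[11,6,12,5,12],32,5⟩)) (.node (.leaf ⟨[6,11,5,13,6,11,5],71,7⟩) (.leaf ⟨[14],23,0⟩)))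
noncomputable def l3r14 : Bt Ru := (.node (.node (.leaf ⟨[13],7,0⟩) (.leaf ⟨[14,14],64,0⟩)) (.node (.leaf ⟨[11,6,11,5,12],29,0⟩) (.leaf ⟨[13],7,0⟩)))
noncomputable def l3r15 : Bt Ru := (.leaf ⟨[16],24,0⟩)
noncomputable def l3r16 : Bt Ru := (.leaf ⟨[15],8,0⟩)
noncomputable def l3r17 : Bt Ru := (.node (.leaf ⟨[13,11,6,12,5,12],32,5⟩) (.leaf ⟨[12,12,12],26,0⟩))
noncomputable def l4r0 : Bt Ru := (.leaf ⟨[0],9,0⟩)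
noncomputable def l4r1 : Bt Ru := (.leaf ⟨[2],11,0⟩)
noncomputable def l4r2 : Bt Ru := (.leaf ⟨[1],1,0⟩)
noncomputable def l4r3 : Bt Ru := (.leaf ⟨[4],18,0⟩)
noncomputable def l4r4 : Bt Ru := (.leaf ⟨[3],2,0⟩)
noncomputable def l4r5 : Bt Ru := (.node (.node (.node (.leaf ⟨[6],19,0⟩) (.leaf ⟨[14,15,13,5,14,15,13],68,5⟩)) (.node (.leaf ⟨[12,5,12,5,12,5,12,5,12],76,9⟩) (.leaf ⟨[13,6,11,5,13,6,11],71,6⟩))) (.node (.node (.leaf ⟨[5,5],62,0⟩) (.leaf ⟨[12,14,11,6,11],29,4⟩)) (.node (.leaf ⟨[15,14,16,13,16],53,4⟩) (.leaf ⟨[12,13,11,6,12],32,3⟩))))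
noncomputable def l4r6 : Bt Ru := (.node (.node (.node (.node (.leaf ⟨[5],3,0⟩) (.leaf ⟨[11,6,11,6,11,6,11,6,11],75,0⟩)) (.node (.leaf ⟨[15,14,15,13,16],37,1⟩) (.leaf ⟨[5],3,0⟩))) (.node (.node (.leaf ⟨[6,6],45,0⟩) (.leaf ⟨[5],3,0⟩)) (.node (.leaf ⟨[11,5,13,6,11,5,13],71,0⟩) (.leaf ⟨[5],3,0⟩)))) (.node (.node (.node (.leaf ⟨[12,5,14,6,12,5,14],73,5⟩) (.leaf ⟨[5],3,0⟩)) (.node (.leaf ⟨[12,14,16,6,12,14,16],77,5⟩) (.leaf ⟨[5],3,0⟩))) (.node (.node (.leaf ⟨[14,16,13,6,14,16,13],72,6⟩) (.leaf ⟨[5],3,0⟩)) (.node (.leaf ⟨[12,5,12,13,11],32,1⟩) (.leaf ⟨[5],3,0⟩)))))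
noncomputable def l4r7 : Bt Ru := (.leaf ⟨[8],20,0⟩)
noncomputable def l4r8 : Bt Ru := (.leaf ⟨[7],4,0⟩)
noncomputable def l4r9 : Bt Ru := (.leaf ⟨[10],21,0⟩)
noncomputable def l4r10 : Bt Ru := (.leaf ⟨[9],5,0⟩)
noncomputable def l4r11 : Bt Ru := (.node (.node (.node (.leaf ⟨[12],22,0⟩) (.leaf ⟨[6,11,6,11,6,11,6,11,6],75,9⟩)) (.node (.leaf ⟨[5,12,14,11,6],29,3⟩) (.leaf ⟨[6,12,5,12,13],32,0⟩))) (.node (.node (.leaf ⟨[11,11],35,0⟩) (.leaf ⟨[5,13,6,11,5,13,6],71,5⟩)) (.node (.leaf ⟨[6,11,5,12,14],29,1⟩) (.leaf ⟨[12],22,0⟩))))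
noncomputable def l4r12 : Bt Ru := (.node (.node (.node (.leaf ⟨[11],6,0⟩) (.leaf ⟨[5,12,5,12,5,12,5,12,5],76,0⟩)) (.node (.leaf ⟨[5,12,13,11,6],32,2⟩) (.leaf ⟨[11],6,0⟩))) (.node (.node (.leaf ⟨[12,12],26,0⟩) (.leaf ⟨[13,11,6,12,5],32,4⟩)) (.node (.leaf ⟨[5,14,6,12,5,14,6],73,6⟩) (.leaf ⟨[11],6,0⟩))))
noncomputable def l4r13 : Bt Ru := (.node (.node (.node (.node (.leaf ⟨[14],23,0⟩) (.leaf ⟨[6,11,5,13,6,11,5],71,7⟩)) (.node (.leaf ⟨[11,6,12,5,12],32,5⟩) (.leaf ⟨[14],23,0⟩))) (.node (.node (.leaf ⟨[16,13,16,13,16,13,16,13,16],70,9⟩) (.leaf ⟨[14],23,0⟩)) (.node (.leaf ⟨[5,14,15,13,5,14,15],68,0⟩) (.leaf ⟨[14],23,0⟩)))) (.node (.node (.node (.leaf ⟨[13,13],47,0⟩) (.leaf ⟨[14],23,0⟩)) (.node (.leaf ⟨[6,14,16,13,6,14,16],72,5⟩) (.leaf ⟨[14],23,0⟩))) (.node (.node (.leaf ⟨[16,5,15,14,16],53,2⟩)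 (.leaf ⟨[14],23,0⟩)) (.node (.leaf ⟨[16,6,15,14,15],37,5⟩) (.leaf ⟨[14],23,0⟩)))))
noncomputable def l4r14 : Bt Ru := (.node (.node (.node (.node (.leaf ⟨[14,14],64,0⟩) (.leaf ⟨[6,12,5,14,6,12,5],73,0⟩)) (.node (.leaf ⟨[11,6,11,5,12],29,0⟩) (.leaf ⟨[13],7,0⟩))) (.node (.node (.leaf ⟨[15,13,5,14,15,13,5],68,6⟩) (.leaf ⟨[13],7,0⟩)) (.node (.leaf ⟨[15,13,16,6,15],37,3⟩) (.leaf ⟨[13],7,0⟩)))) (.node (.node (.node (.leaf ⟨[13],7,0⟩) (.leaf ⟨[13],7,0⟩)) (.node (.leaf ⟨[16,13,6,14,16,13,6],72,7⟩) (.leaf ⟨[13],7,0⟩))) (.node (.node (.leaf ⟨[15,14,15,14,15,14,15,14,15],74,0⟩) (.leaf ⟨[13],7,0⟩)) (.node (.leaf ⟨[16,13,16,5,15],53,0⟩) (.leaf ⟨[13],7,0⟩)))))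
noncomputable def l4r15 : Bt Ru := (.node (.node (.node (.leaf ⟨[16],24,0⟩) (.leaf ⟨[13,16,6,15,14],37,4⟩)) (.node (.leaf ⟨[14,15,13,16,6],37,2⟩) (.leaf ⟨[14,16,13,16,5],53,5⟩))) (.node (.node (.leaf ⟨[15,15],48,0⟩) (.leaf ⟨[14,15,14,15,14,15,14,15,14],74,9⟩)) (.node (.leaf ⟨[13,5,14,15,13,5,14],68,7⟩) (.leaf ⟨[16],24,0⟩))))
noncomputable def l4r16 : Bt Ru := (.node (.node (.node (.leaf ⟨[15],8,0⟩) (.leaf ⟨[13,6,14,16,13,6,14],72,0⟩)) (.node (.leaf ⟨[5,15,14,16,13],53,3⟩) (.leaf ⟨[13,16,13,16,13,16,13,16,13],70,0⟩))) (.node (.node (.leaf ⟨[6,15,14,15,13],37,0⟩) (.leaf ⟨[13,16,5,15,14],53,1⟩)) (.node (.leaf ⟨[16,16],46,0⟩) (.leaf ⟨[15],8,0⟩))))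
noncomputable def l4r17 : Bt Ru := (.node (.node (.node (.node (.node (.leaf ⟨[16,13,16,13,16,13,16,13,16,13],70,0⟩) (.leaf ⟨[5,15,14,16,13,16],53,4⟩)) (.node (.leaf ⟨[6,14,16,13,6,14,16,13],72,6⟩) (.leaf ⟨[14,16,13,16,5,15],53,0⟩))) (.node (.node (.leaf ⟨[14,16,13,6,14,16,13,6],72,7⟩) (.leaf ⟨[15,13,16,6,15,14],37,4⟩)) (.node (.leaf ⟨[5,14,15,13,5,14,15,13],68,5⟩) (.leaf ⟨[0,0],9,0⟩)))) (.node (.node (.node (.leaf ⟨[14,15,13,5,14,15,13,5],68,6⟩) (.leaf ⟨[13,16,6,15,14,15],37,5⟩)) (.node (.leaf ⟨[6,15,14,15,13,16],37,1⟩) (.leaf ⟨[16,6,15,14,15,13],37,0⟩))) (.node (.node (.leaf ⟨[5,13,6,11,5,13,6,11],71,6⟩) (.leaf ⟨[13,16,5,15,14,16],53,2⟩)) (.node (.leaf ⟨[13,6,14,16,13,6,14,16],72,5⟩) (.leaf ⟨[0,0],9,0⟩))))) (.node (.node (.node (.node (.leaf ⟨[6,11,6,11,6,11,6,11,6,11],75,0⟩)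 (.leaf ⟨[16,16,16],46,0⟩)) (.node (.leaf ⟨[15,14,15,13,16,6],37,2⟩) (.leaf ⟨[16,13,6,14,16,13,6,14],72,0⟩))) (.node (.node (.leaf ⟨[11,6,11,6,11,6,11,6,11,6],75,9⟩) (.leaf ⟨[15,13,5,14,15,13,5,14],68,7⟩)) (.node (.leaf ⟨[15,14,15,14,15,14,15,14,15,14],74,9⟩) (.leaf ⟨[0,0],9,0⟩)))) (.node (.node (.node (.leaf ⟨[13,16,13,16,13,16,13,16,13,16],70,9⟩) (.leaf ⟨[14,15,13,16,6,15],37,3⟩)) (.node (.leaf ⟨[14,15,14,15,14,15,14,15,14,15],74,0⟩) (.leaf ⟨[15,15,15],48,0⟩))) (.node (.node (.leaf ⟨[15,14,16,13,16,5],53,5⟩) (.leaf ⟨[16,5,15,14,16,13],53,3⟩)) (.node (.leaf ⟨[13,5,14,15,13,5,14,15],68,0⟩) (.leaf ⟨[0,0],9,0⟩))))))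
noncomputable def l5r0 : Bt Ru := (.leaf ⟨[0],9,0⟩)
noncomputable def l5r1 : Bt Ru := (.leaf ⟨[2],11,0⟩)
noncomputable def l5r2 : Bt Ru := (.leaf ⟨[1],1,0⟩)
noncomputable def l5r3 : Bt Ru := (.leaf ⟨[4],18,0⟩)
noncomputable def l5r4 : Bt Ru := (.leaf ⟨[3],2,0⟩)
noncomputable def l5r5 : Bt Ru := (.leaf ⟨[6],19,0⟩)
noncomputable def l5r6 : Bt Ru := (.leaf ⟨[6,6],45,0⟩)
noncomputable def l5r7 : Bt Ru := (.leaf ⟨[8],20,0⟩)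
noncomputable def l5r8 : Bt Ru := (.leaf ⟨[7],4,0⟩)
noncomputable def l5r9 : Bt Ru := (.leaf ⟨[10],21,0⟩)
noncomputable def l5r10 : Bt Ru := (.leaf ⟨[9],5,0⟩)
noncomputable def l5r11 : Bt Ru := (.leaf ⟨[12],22,0⟩)
noncomputable def l5r12 : Bt Ru := (.leaf ⟨[11],6,0⟩)
noncomputable def l5r13 : Bt Ru := (.leaf ⟨[14],23,0⟩)
noncomputable def l5r14 : Bt Ru := (.leaf ⟨[13],7,0⟩)
noncomputable def l5r15 : Bt Ru := (.leaf ⟨[16],24,0⟩)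
noncomputable def l5r16 : Bt Ru := (.leaf ⟨[15],8,0⟩)
noncomputable def l5r17 : Bt Ru := (.leaf ⟨[0,0],9,0⟩)
noncomputable def l0T : List (Bt Nat) := [l0t0, l0t1, l0t2, l0t3, l0t4, l0t5, l0t6, l0t7, l0t8, l0t9, l0t10, l0t11, l0t12, l0t13, l0t14, l0t15, l0t16, (.leaf (nat_lit 0)), l0t18]
noncomputable def l0R : List (Bt Ru) := [l0r0, l0r1, l0r2, l0r3, l0r4, l0r5, l0r6, l0r7, l0r8, l0r9, l0r10, l0r11, l0r12, l0r13, l0r14, l0r15, l0r16, l0r17]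
noncomputable def l0c (a lo cnt : Nat) : Nat := chk (gT l0T (nat_lit 14)) (rT l0R) (nat_lit 14) (nat_lit 0x7fc0) (nat_lit 0x4000) (nat_lit 0x3fc0) (nat_lit 17) (nat_lit 15) (nat_lit 511) (nat_lit 0x8000000000ffffff) (nat_lit 10) (nat_lit 18) (nat_lit 0x1fff8) (nat_lit 0x45c0) a (nfOf [0,1,2] 24 a) lo cnt
noncomputable def l0f (a : Nat) : Nat := l0c a 0 1
noncomputable def l0m (lo cnt : Nat) : Nat := chkM (gT l0T (nat_lit 14)) (nat_lit 14) (nat_lit 0x7fc0) (nat_lit 0x4000) (nat_lit 0x3fc0) (nat_lit 17) lo cnt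
noncomputable def l1T : List (Bt Nat) := [(.leaf (nat_lit 0)), (.leaf (nat_lit 0)), (.leaf (nat_lit 0)), l1t3, l1t4, l1t5, l1t6, l1t7, l1t8, l1t9, l1t10, l1t11, l1t12, l1t13, l1t14, l1t15, l1t16, l1t17, l1t18]
noncomputable def l1R : List (Bt Ru) := [l1r0, l1r1, l1r2, l1r3, l1r4, l1r5, l1r6, l1r7, l1r8, l1r9, l1r10, l1r11, l1r12, l1r13, l1r14, l1r15, l1r16, l1r17]
noncomputable def l1c (a lo cnt : Nat) : Nat := chk (gT l1T (nat_lit 14)) (rT l1R) (nat_lit 14) (nat_lit 0x7fc0) (nat_lit 0x4000) (nat_lit 0x3fc0) (nat_lit 17) (nat_lit 15) (nat_lit 511) (nat_lit 0x8000000000ffffff) (nat_lit 11) (nat_lit 20) (nat_lit 0x1f860) (nat_lit 0x47c0) a (nfOf [3,4,5,6,7,8,9,10,11,12,13,14,15,16] 23 a) lo cnt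
noncomputable def l1f (a : Nat) : Nat := l1c a 0 1
noncomputable def l1m (lo cnt : Nat) : Nat := chkM (gT l1T (nat_lit 14)) (nat_lit 14) (nat_lit 0x7fc0) (nat_lit 0x4000) (nat_lit 0x3fc0) (nat_lit 17) lo cnt
noncomputable def l2T : List (Bt Nat) := [(.leaf (nat_lit 0)), (.leaf (nat_lit 0)), (.leaf (nat_lit 0)), (.leaf (nat_lit 0)), (.leaf (nat_lit 0)), l2t5, l2t6, (.leaf (nat_lit 0)), (.leaf (nat_lit 0)), (.leaf (nat_lit 0)), (.leaf (nat_lit 0)), l2t11, l2t12, l2t13, l2t14, l2t15, l2t16, l2t17, l2t18]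
noncomputable def l2R : List (Bt Ru) := [l2r0, l2r1, l2r2, l2r3, l2r4, l2r5, l2r6, l2r7, l2r8, l2r9, l2r10, l2r11, l2r12, l2r13, l2r14, l2r15, l2r16, l2r17]
noncomputable def l2c (a lo cnt : Nat) : Nat := chk (gT l2T (nat_lit 14)) (rT l2R) (nat_lit 14) (nat_lit 0x7fc0) (nat_lit 0x4000) (nat_lit 0x3fc0) (nat_lit 17) (nat_lit 15) (nat_lit 511) (nat_lit 0x8000000000ffffff) (nat_lit 14) (nat_lit 26) (nat_lit 0x7860) (nat_lit 0x5b80) a (nfOf [5,6,11,12,13,14,15,16] 77 a) lo cnt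
noncomputable def l2f (a : Nat) : Nat := l2c a 0 1
noncomputable def l2m (lo cnt : Nat) : Nat := chkM (gT l2T (nat_lit 14)) (nat_lit 14) (nat_lit 0x7fc0) (nat_lit 0x4000) (nat_lit 0x3fc0) (nat_lit 17) lo cnt
noncomputable def l3T : List (Bt Nat) := [(.leaf (nat_lit 0)), (.leaf (nat_lit 0)), (.leaf (nat_lit 0)), (.leaf (nat_lit 0)), (.leaf (nat_lit 0)), l3t5, l3t6, (.leaf (nat_lit 0)), (.leaf (nat_lit 0)), (.leaf (nat_lit 0)), (.leaf (nat_lit 0)), l3t11, l3t12, l3t13, l3t14, (.leaf (nat_lit 0)), (.leaf (nat_lit 0)), l3t17, l3t18]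
noncomputable def l3R : List (Bt Ru) := [l3r0, l3r1, l3r2, l3r3, l3r4, l3r5, l3r6, l3r7, l3r8, l3r9, l3r10, l3r11, l3r12, l3r13, l3r14, l3r15, l3r16, l3r17]
noncomputable def l3c (a lo cnt : Nat) : Nat := chk (gT l3T (nat_lit 14)) (rT l3R) (nat_lit 14) (nat_lit 0x7fc0) (nat_lit 0x4000) (nat_lit 0x3fc0) (nat_lit 17) (nat_lit 15) (nat_lit 511) (nat_lit 0x8000000000ffffff) (nat_lit 8) (nat_lit 14) (nat_lit 0x6060) (nat_lit 0x46c0) a (nfOf [5,6,11,12,13,14] 16 a) lo cnt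
noncomputable def l3f (a : Nat) : Nat := l3c a 0 1
noncomputable def l3m (lo cnt : Nat) : Nat := chkM (gT l3T (nat_lit 14)) (nat_lit 14) (nat_lit 0x7fc0) (nat_lit 0x4000) (nat_lit 0x3fc0) (nat_lit 17) lo cnt
noncomputable def l4T : List (Bt Nat) := [(.leaf (nat_lit 0)), (.leaf (nat_lit 0)), (.leaf (nat_lit 0)), (.leaf (nat_lit 0)), (.leaf (nat_lit 0)), l4t5, l4t6, (.leaf (nat_lit 0)), (.leaf (nat_lit 0)), (.leaf (nat_lit 0)), (.leaf (nat_lit 0)), l4t11, l4t12, l4t13, l4t14, l4t15, l4t16, l4t17, l4t18]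
noncomputable def l4R : List (Bt Ru) := [l4r0, l4r1, l4r2, l4r3, l4r4, l4r5, l4r6, l4r7, l4r8, l4r9, l4r10, l4r11, l4r12, l4r13, l4r14, l4r15, l4r16, l4r17]
noncomputable def l4c (a lo cnt : Nat) : Nat := chk (gT l4T (nat_lit 14)) (rT l4R) (nat_lit 14) (nat_lit 0x7ffc0) (nat_lit 0x7c000) (nat_lit 0x3fc0) (nat_lit 17) (nat_lit 19) (nat_lit 8191) (nat_lit 0x80000000ffffffff) (nat_lit 30) (nat_lit 58) (nat_lit 96) (nat_lit 0x81c0) a (nfOf [5,6,13,14] 120 a) lo cnt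
noncomputable def l4f (a : Nat) : Nat := l4c a 0 31
noncomputable def l4m (lo cnt : Nat) : Nat := chkM (gT l4T (nat_lit 14)) (nat_lit 14) (nat_lit 0x7ffc0) (nat_lit 0x7c000) (nat_lit 0x3fc0) (nat_lit 17) lo cnt
noncomputable def l5T : List (Bt Nat) := [(.leaf (nat_lit 0)), (.leaf (nat_lit 0)), (.leaf (nat_lit 0)), (.leaf (nat_lit 0)), (.leaf (nat_lit 0)), l5t5, l5t6, (.leaf (nat_lit 0)), (.leaf (nat_lit 0)), (.leaf (nat_lit 0)), (.leaf (nat_lit 0)), (.leaf (nat_lit 0)), (.leaf (nat_lit 0)), (.leaf (nat_lit 0)), (.leaf (nat_lit 0)), (.leaf (nat_lit 0)), (.leaf (nat_lit 0)), (.leaf (nat_lit 0)), l5t18]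
noncomputable def l5R : List (Bt Ru) := [l5r0, l5r1, l5r2, l5r3, l5r4, l5r5, l5r6, l5r7, l5r8, l5r9, l5r10, l5r11, l5r12, l5r13, l5r14, l5r15, l5r16, l5r17]
noncomputable def l5c (a lo cnt : Nat) : Nat := chk (gT l5T (nat_lit 14)) (rT l5R) (nat_lit 14) (nat_lit 0x7fc0) (nat_lit 0x4000) (nat_lit 0x3fc0) (nat_lit 17) (nat_lit 15) (nat_lit 511) (nat_lit 0x8000000000ffffff) (nat_lit 3) (nat_lit 4) (nat_lit 0) (nat_lit 0x4080) a (nfOf [5,6] 3 a) lo cnt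
noncomputable def l5f (a : Nat) : Nat := l5c a 0 1
noncomputable def l5m (lo cnt : Nat) : Nat := chkM (gT l5T (nat_lit 14)) (nat_lit 14) (nat_lit 0x7fc0) (nat_lit 0x4000) (nat_lit 0x3fc0) (nat_lit 17) lo cnt

end Cfsg.Agent.TCX.M24pB
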